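import Groth.Agent.Coherent.K50.HomAcyc
import Groth.Agent.Coherent.K47.SheafHomStalk
import Groth.Agent.Divis.StalkMod
import Groth.Agent.CycB.ModStalk
import Groth.Agent.Sga67.CohBasic
import Groth.Agent.PerfA.CohSerre

/-!
# Cokernels of monomorphisms of vector bundles whose dual is an epimorphism

* `isFinLocFree_of_epi`: for `0 → X₁ → X₂ → X₃ → 0` exact, `X₁`, `X₂` finite locally free, `N` invertible and
  `Hom(X₂, N) → Hom(X₁, N)` an epimorphism, `X₃` is finite locally free.
-/

set_option autoImplicit false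
universe u

open CategoryTheory CategoryTheory.Limits AlgebraicGeometry TopologicalSpace Opposite

namespace K272.DualEpi

open Groth.Agent Groth.Agent.CycB.StalkExact Groth.Agent.CohqB.HomSheaf
  Groth.Agent.Htor.H255.HomStalk Groth.Agent.Htor.H255.StalkBij
  Groth.Agent.Coherent.K47.SheafHomStalk

section Alg

variable {R : Type*} [CommRing R] {K G L E : Type*} [AddCommGroup K] [Module R K] [AddCommGroup G] [Module R G]
  [AddCommGroup L] [Module R L] [AddCommGroup E] [Module R E]

theorem exists_retraction [Module.Free R K] [Module.Finite R K] (f : K →ₗ[R] G) (e : L ≃ₗ[R] R)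
    (h : ∀ g : K →ₗ[R] L, ∃ g' : G →ₗ[R] L, g' ∘ₗ f = g) : ∃ r : G →ₗ[R] K, r ∘ₗ f = LinearMap.id := by
  let b := Module.Free.chooseBasis R K
  choose g' hg' using fun i => h (e.symm.toLinearMap ∘ₗ b.coord i)
  refine ⟨∑ i, (LinearMap.toSpanSingleton R K (b i)) ∘ₗ e.toLinearMap ∘ₗ g' i, LinearMap.ext fun x => ?_⟩
  have h1 : ∀ i, g' i (f x) = e.symm (b.coord i x) := fun i => LinearMap.congr_fun (hg' i) x
  simp only [LinearMap.comp_apply, LinearMap.sum_apply, h1, LinearMap.toSpanSingleton_apply, LinearEquiv.coe_coe,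
    LinearEquiv.apply_symm_apply, Module.Basis.coord_apply, LinearMap.id_apply]
  exact b.sum_repr x

theorem projective_of_retraction [Module.Projective R G] (f : K →ₗ[R] G) (p : G →ₗ[R] E) (hex : Function.Exact f p)
    (hp : Function.Surjective p) (r : G →ₗ[R] K) (hr : r ∘ₗ f = LinearMap.id) : Module.Projective R E := by
  have hker : LinearMap.ker p ≤ LinearMap.ker (LinearMap.id - f ∘ₗ r) := by
    intro x hx
    obtain ⟨y, rfl⟩ := (hex x).mp hx
    have : r (f y) = y := LinearMap.congr_fun hr y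
    simp [this]
  let s : E →ₗ[R] G := (LinearMap.ker p).liftQ (LinearMap.id - f ∘ₗ r) hker ∘ₗ (p.quotKerEquivOfSurjective hp).symm.toLinearMap
  have hs : ∀ x, s (p x) = x - f (r x) := by
    intro x
    have h1 : (p.quotKerEquivOfSurjective hp).symm (p x) = Submodule.Quotient.mk x := by
      rw [LinearEquiv.symm_apply_eq]
      rfl
    simp only [s, LinearMap.comp_apply, LinearEquiv.coe_coe, h1]
    rfl
  refine Module.Projective.of_split s p (LinearMap.ext fun x => ?_)
  obtain ⟨y, rfl⟩ := hp x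
  have h0 : p (f (r y)) = 0 := (hex _).mpr ⟨_, rfl⟩
  simp [hs, h0]

end Alg

variable {X : Scheme.{u}}

/-- Naturality of the stalks of the sheaf Hom in the first variable. -/
theorem homStalk_pre {F G : X.Modules} (N : X.Modules) (f : F ⟶ G) (x : X) (t : (homSheaf G N).presheaf.stalk x) :
    homStalk F N x (stalkLin (homPre f N) x t) = (homStalk G N x t) ∘ₗ (stalkLin f x) := by
  obtain ⟨U, hU, s, rfl⟩ := (homSheaf G N).presheaf.exists_germ_eq t
  apply LinearMap.ext
  intro m
  obtain ⟨V, hV, m, rfl⟩ := F.presheaf.exists_germ_eq m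
  have e : F.presheaf.germ V x hV m = F.presheaf.germ (V ⊓ U) x (Opens.mem_inf.2 ⟨hV, hU⟩)
      (F.presheaf.map (homOfLE inf_le_left).op m) :=
    (TopCat.Presheaf.germ_res_apply F.presheaf (homOfLE inf_le_left) x
      (Opens.mem_inf.2 ⟨hV, hU⟩) m).symm
  rw [e]
  have e1 : stalkLin (homPre f N) x ((homSheaf G N).presheaf.germ U x hU s) =
      (homSheaf F N).presheaf.germ U x hU ((homPre f N).app U s) :=
    stalkLin_germ (homPre f N) x hU s
  rw [e1, homStalk_germ_germ x hU _ _ _ inf_le_right, LinearMap.comp_apply, stalkLin_germ]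
  exact (homStalk_germ_germ x hU s _ _ inf_le_right _).symm

theorem exists_dual_lift [IsLocallyNoetherian X] {F G : X.Modules} (N : X.Modules) (hF : Coh.IsCoh F) (f : F ⟶ G)
    [Epi (homPre f N)] (x : X) (g : F.presheaf.stalk x →ₗ[X.presheaf.stalk x] N.presheaf.stalk x) :
    ∃ g' : G.presheaf.stalk x →ₗ[X.presheaf.stalk x] N.presheaf.stalk x, g' ∘ₗ (stalkLin f x) = g := by
  obtain ⟨t, ht⟩ := (bijective_homStalk_coh hF N x).2 g
  obtain ⟨s, rfl⟩ := stalkLin_surjective (homPre f N) x t
  exact ⟨homStalk G N x s, (homStalk_pre N f x s).symm.trans ht⟩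

theorem isFinLocFree_of_epi [IsLocallyNoetherian X] {S : ShortComplex X.Modules} (hS : S.ShortExact)
    (h₁ : FlatMod.IsFinLocFree S.X₁) (h₂ : FlatMod.IsFinLocFree S.X₂) (N : X.Modules) (hN : PicF.IsInvertible N)
    [Epi (homPre S.f N)] : FlatMod.IsFinLocFree S.X₃ := by
  have hc1 := PerfA.CohSerre.isCoh_of_isFinLocFree h₁
  have hc2 := PerfA.CohSerre.isCoh_of_isFinLocFree h₂
  have hmono := hS.mono_f
  have hepi := hS.epi_g
  have hc3 : Coh.IsCoh S.X₃ := Sga67.CohBasic.isCoh_X₃ hS hc1.1 hc2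
  refine Divis.StalkMod.isFinLocFree_of_free_stalk hc3 fun x => ?_
  obtain ⟨hf1, hr1⟩ := Divis.StalkMod.finite_free_stalk hc1.1 h₁ x
  obtain ⟨hf2, hr2⟩ := Divis.StalkMod.finite_free_stalk hc2.1 h₂ x
  obtain ⟨t, ht⟩ := CycB.ModStalk.exists_isGen hN x
  let e : N.presheaf.stalk x ≃ₗ[X.presheaf.stalk x] X.presheaf.stalk x :=
    (LinearEquiv.ofBijective (LinearMap.toSpanSingleton _ _ t) ht).symm
  obtain ⟨r, hr⟩ := exists_retraction (stalkLin S.f x) e (exists_dual_lift N hc1 S.f x)
  have hp := projective_of_retraction (stalkLin S.f x) (stalkLin S.g x) (stalkLin_exact S hS.exact x)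
    (stalkLin_surjective _ x) r hr
  have hfin := Module.Finite.of_surjective (stalkLin S.g x) (stalkLin_surjective _ x)
  exact Module.free_of_flat_of_isLocalRing

end K272.DualEpi
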