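import Mathlib.CategoryTheory.Abelian.Exact
import Mathlib.CategoryTheory.Abelian.Basic
import Mathlib.Algebra.Homology.ShortComplex.ShortExact
import Mathlib.CategoryTheory.Abelian.Refinements

/-!
# Pushing out a short exact sequence

For `0 → X₁ → X₂ → X₃ → 0` exact and `φ : X₁ → O`: `0 → X₁ → X₂ ⊞ O → E → 0` (`presentation`) and
`0 → O → E → X₃ → 0` (`shortExact`) are exact.
-/

set_option autoImplicit false
universe v u

open CategoryTheory CategoryTheory.Limits

namespace K272.PushSeq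

variable {C : Type u} [Category.{v} C] [Abelian C] (S : ShortComplex C) {O : C} (φ : S.X₁ ⟶ O)

/-- `(f, φ) : X₁ ⟶ X₂ ⊞ O`. -/
noncomputable def inc : S.X₁ ⟶ S.X₂ ⊞ O := biprod.lift S.f φ

/-- The pushout. -/
noncomputable def mid : C := cokernel (inc S φ)

/-- The projection to the pushout. -/
noncomputable def pr : S.X₂ ⊞ O ⟶ mid S φ := cokernel.π _

theorem inc_pr : inc S φ ≫ pr S φ = 0 := cokernel.condition _

instance epi_pr : Epi (pr S φ) := coequalizer.π_epi

@[simp] theorem inc_fst : inc S φ ≫ biprod.fst = S.f := by simp [inc]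

@[simp] theorem inc_snd : inc S φ ≫ biprod.snd = φ := by simp [inc]

/-- The map to `X₃`. -/
noncomputable def quo : mid S φ ⟶ S.X₃ :=
  cokernel.desc _ (biprod.desc S.g 0) (by simp [inc])

theorem pr_quo : pr S φ ≫ quo S φ = biprod.desc S.g 0 := cokernel.π_desc _ _ _

/-- The presentation of the pushout. -/
noncomputable abbrev pres : ShortComplex C := ShortComplex.mk (inc S φ) (pr S φ) (inc_pr S φ)

/-- The pushed out sequence. -/
noncomputable abbrev seq : ShortComplex C :=
  ShortComplex.mk (biprod.inr ≫ pr S φ) (quo S φ) (by rw [Category.assoc, pr_quo, biprod.inr_desc])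

variable {S}

include S in
theorem presentation (hS : S.ShortExact) : (pres S φ).ShortExact := by
  have := hS.mono_f
  have h1 : Mono (inc S φ ≫ biprod.fst) := by rw [inc_fst]; infer_instance
  have h2 : Mono (inc S φ) := mono_of_mono _ (biprod.fst : S.X₂ ⊞ O ⟶ S.X₂)
  exact ShortComplex.ShortExact.mk' (ShortComplex.exact_of_g_is_cokernel _ (cokernelIsCokernel _)) h2 (epi_pr S φ)

theorem shortExact (hS : S.ShortExact) : (seq S φ).ShortExact := by
  have hp := presentation φ hS
  have hpm : Mono (pres S φ).f := hp.mono_f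
  have hSe := hS.epi_g
  have hSm := hS.mono_f
  have hmono : Mono (seq S φ).f := by
    rw [Preadditive.mono_iff_cancel_zero]
    intro T x hx
    change x ≫ biprod.inr ≫ pr S φ = 0 at hx
    have hx' : (x ≫ biprod.inr) ≫ (pres S φ).g = 0 := by rw [Category.assoc]; exact hx
    have hk : hp.exact.lift (x ≫ biprod.inr) hx' ≫ inc S φ = x ≫ biprod.inr := hp.exact.lift_f _ _
    generalize hp.exact.lift (x ≫ biprod.inr) hx' = k at hk
    have h1 : k ≫ S.f = 0 := by
      have h := congrArg (· ≫ (biprod.fst : S.X₂ ⊞ O ⟶ S.X₂)) hk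
      simpa using h
    have h2 : k = 0 := (cancel_mono S.f).mp (h1.trans zero_comp.symm)
    have h3 := congrArg (· ≫ (biprod.snd : S.X₂ ⊞ O ⟶ O)) hk
    rw [h2] at h3
    simpa using h3.symm
  have hepi : Epi (seq S φ).g := by
    change Epi (quo S φ)
    have h1 : Epi ((biprod.inl : S.X₂ ⟶ S.X₂ ⊞ O) ≫ biprod.desc S.g (0 : O ⟶ S.X₃)) := by
      rw [biprod.inl_desc]; infer_instance
    have h2 : Epi (biprod.desc S.g (0 : O ⟶ S.X₃)) := epi_of_epi (biprod.inl : S.X₂ ⟶ S.X₂ ⊞ O) _
    have h3 : Epi (pr S φ ≫ quo S φ) := by rw [pr_quo]; exact h2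
    exact epi_of_epi (pr S φ) _
  refine ShortComplex.ShortExact.mk' ?_ hmono hepi
  rw [ShortComplex.exact_iff_exact_up_to_refinements]
  intro T y hy
  obtain ⟨T', π, hπ, ab, hab⟩ := surjective_up_to_refinements_of_epi (pr S φ) y
  have h1 : (ab ≫ (biprod.fst : S.X₂ ⊞ O ⟶ S.X₂)) ≫ S.g = 0 := by
    have h2 : π ≫ y ≫ quo S φ = 0 := by
      have : y ≫ quo S φ = 0 := hy
      rw [this, comp_zero]
    rw [← Category.assoc, hab, Category.assoc, pr_quo] at h2
    have h3 : biprod.desc S.g (0 : O ⟶ S.X₃) = biprod.fst ≫ S.g := by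
      apply biprod.hom_ext' <;> simp
    rw [h3] at h2
    rw [Category.assoc]
    exact h2
  have hk : hS.exact.lift _ h1 ≫ S.f = _ := hS.exact.lift_f _ h1
  generalize hS.exact.lift _ h1 = k at hk
  refine ⟨T', π, hπ, ab ≫ biprod.snd - k ≫ φ, ?_⟩
  have h4 : ab = k ≫ inc S φ + (ab ≫ biprod.snd - k ≫ φ) ≫ biprod.inr := by
    apply biprod.hom_ext
    · simp [hk]
    · simp
  change π ≫ y = (ab ≫ biprod.snd - k ≫ φ) ≫ biprod.inr ≫ pr S φ
  rw [hab]
  conv_lhs => rw [h4]
  rw [Preadditive.add_comp, Category.assoc, inc_pr, comp_zero, zero_add, Category.assoc]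

end K272.PushSeq
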