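import Groth.Agent.Coherent.K50.HomAcyc
import Groth.Agent.CurvesB.Pairing
import Groth.Agent.VBPn.K697.ExtHom
import Groth.Agent.VBPn.K272.PushSeq

/-!
# Lifting a generator of `Ext¹(J, N)`

`0 → K → F → J → 0` exact with `F` finite locally free, `u : O → Ext¹(J, N)` an epimorphism of sheaves. If
`H¹(Hom(F, N)) = 0` and `H²(Hom(J, N)) = 0` there is `φ : K → N` such that `Hom(F ⊞ N, N) → Hom(K, N)` is an
epimorphism.
-/

set_option autoImplicit false
universe u

open CategoryTheory CategoryTheory.Limits CategoryTheory.Abelian AlgebraicGeometry TopologicalSpace Opposite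

namespace K272.ExtLift

open Groth.Agent Groth.Agent.Dcoh.MonClosed Groth.Agent.CohqB.HomSheaf K50.HomInj K50.HomAcyc
  Groth.Agent.CurvesB.Pairing

variable {X : Scheme.{u}}

/-- The identity section of `Hom(N, N)`. -/
noncomputable def idSec (N : X.Modules) : Coh.structureModule X ⟶ homSheaf N N :=
  secHom _ ((topEquiv N N).symm (𝟙 N))

/-- The morphism `K ⟶ N` attached to `O ⟶ Hom(K, N)`. -/
noncomputable def toMor {K N : X.Modules} (g : Coh.structureModule X ⟶ homSheaf K N) : K ⟶ N :=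
  topEquiv K N (homSec g)

theorem idSec_homPre {K N : X.Modules} (g : Coh.structureModule X ⟶ homSheaf K N) :
    idSec N ≫ homPre (toMor g) N = g := by
  rw [← secHom_homSec g]
  unfold idSec
  rw [secHom_comp]
  congr 1
  apply (topEquiv K N).injective
  have h1 : topEquiv K N ((homPre (toMor (secHom _ (homSec g))) N).app ⊤ ((topEquiv N N).symm (𝟙 N))) =
      toMor (secHom _ (homSec g)) ≫ 𝟙 N := rfl
  rw [h1, Category.comp_id, toMor, homSec_secHom]

variable [HasInjectiveResolutions X.Modules] {S : ShortComplex X.Modules} (hS : S.ShortExact) (N : X.Modules)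

/-- The connecting map `Hom(K, N) → Ext¹(J, N)`. -/
noncomputable def conn : homSheaf S.X₁ N ⟶ ((homFunctor S.X₃).rightDerived 1).obj N :=
  Sga4h.FunLES.δ₀ (homPreNat S.g) (homPreNat S.f) (homPreNat_comp_eq_zero S) (shortExact_homPreNat hS) N

theorem homPre_conn : homPre S.f N ≫ conn hS N = 0 :=
  Sga4h.FunLES.comp_δ₀ (homPreNat S.g) (homPreNat S.f) (homPreNat_comp_eq_zero S) (shortExact_homPreNat hS) N

theorem exact_conn : (ShortComplex.mk (homPre S.f N) (conn hS N) (homPre_conn hS N)).Exact :=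
  Sga4h.FunLES.exact₀ (homPreNat S.g) (homPreNat S.f) (homPreNat_comp_eq_zero S) (shortExact_homPreNat hS) N

theorem epi_conn (h₂ : FlatMod.IsFinLocFree S.X₂) : Epi (conn hS N) :=
  Sga4h.FunLES.epi_δ₀ (homPreNat S.g) (homPreNat S.f) (homPreNat_comp_eq_zero S)
    (shortExact_homPreNat hS) N (isAcyc_of_flf h₂ N 1 Nat.one_pos)

include hS in
omit [HasInjectiveResolutions X.Modules] in
theorem mono_homPre_g : Mono (homPre S.g N) := by
  have := hS.epi_g
  exact mono_of_injective _ (homPre_injective S.g N)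

/-- `Hom(F, N) → ker(Hom(K, N) → Ext¹(J, N))`. -/
noncomputable def toKer : homSheaf S.X₂ N ⟶ kernel (conn hS N) := kernel.lift _ (homPre S.f N) (homPre_conn hS N)

theorem toKer_ι : toKer hS N ≫ kernel.ι _ = homPre S.f N := kernel.lift_ι _ _ _

theorem homPre_toKer : homPre S.g N ≫ toKer hS N = 0 := by
  rw [← cancel_mono (kernel.ι _), Category.assoc, toKer_ι, zero_comp, homPre_comp, S.zero, homPre_zero]

/-- `0 → Hom(J, N) → Hom(F, N) → Q → 0`. -/
theorem shortExact_left : (ShortComplex.mk (homPre S.g N) (toKer hS N) (homPre_toKer hS N)).ShortExact := by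
  have hm := mono_homPre_g hS N
  have he : Epi (toKer hS N) := (exact_conn hS N).epi_kernelLift
  refine ShortComplex.ShortExact.mk' ?_ hm he
  rw [ShortComplex.exact_iff_exact_up_to_refinements]
  intro T x hx
  have hx' : x ≫ homPre S.f N = 0 := by
    rw [← toKer_ι hS N, ← Category.assoc]
    change x ≫ toKer hS N = 0 at hx
    rw [hx, zero_comp]
  have : Mono (homSC S N).f := hm
  exact ⟨T, 𝟙 T, inferInstance, (exact_homSC hS N).lift x hx', by
    rw [Category.id_comp]; exact ((exact_homSC hS N).lift_f x hx').symm⟩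

/-- `0 → Q → Hom(K, N) → Ext¹(J, N) → 0`. -/
theorem shortExact_right (h₂ : FlatMod.IsFinLocFree S.X₂) :
    (ShortComplex.mk (kernel.ι (conn hS N)) (conn hS N) (kernel.condition _)).ShortExact := by
  have := epi_conn hS N h₂
  exact ShortComplex.ShortExact.mk' (ShortComplex.exact_of_f_is_kernel _ (kernelIsKernel _)) inferInstance this

/-- Maps `O → Ext¹(J, N)` lift to `Hom(K, N)`. -/
theorem exists_lift [HasExt.{u} X.Modules] (h₂ : FlatMod.IsFinLocFree S.X₂)
    (h1 : Subsingleton (Ext.{u} (Coh.structureModule X) (homSheaf S.X₂ N) 1))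
    (h2 : Subsingleton (Ext.{u} (Coh.structureModule X) (homSheaf S.X₃ N) 2))
    (u : Coh.structureModule X ⟶ ((homFunctor S.X₃).rightDerived 1).obj N) :
    ∃ g : Coh.structureModule X ⟶ homSheaf S.X₁ N, g ≫ conn hS N = u :=
  K697.ExtHom.exists_lift (shortExact_right hS N h₂)
    (K697.ExtHom.subsingleton_cov_trd (shortExact_left hS N) (rfl : 1 + 1 = 2) h1 h2) u

open K272.PushSeq in
/-- If a generator of `Ext¹(J, N)` is the class of `φ : K → N` then `Hom(F ⊞ N, N) → Hom(K, N)` is an epimorphism. -/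
theorem epi_homPre_inc (g : Coh.structureModule X ⟶ homSheaf S.X₁ N) [Epi (g ≫ conn hS N)]
    (h₂ : FlatMod.IsFinLocFree S.X₂) : Epi (homPre (inc S (toMor g)) N) := by
  have hδ := epi_conn hS N h₂
  rw [Preadditive.epi_iff_cancel_zero]
  intro T q hq
  have h1 : homPre S.f N ≫ q = 0 := by
    have h : homPre S.f N = homPre (biprod.fst : S.X₂ ⊞ N ⟶ S.X₂) N ≫ homPre (inc S (toMor g)) N := by
      rw [homPre_comp, inc_fst]
    rw [h, Category.assoc, hq, Limits.comp_zero]
  have h2 : g ≫ q = 0 := by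
    have h : g = idSec N ≫ homPre (biprod.snd : S.X₂ ⊞ N ⟶ N) N ≫ homPre (inc S (toMor g)) N := by
      rw [homPre_comp, inc_snd, idSec_homPre]
    conv_lhs => rw [h]
    rw [Category.assoc, Category.assoc, hq, Limits.comp_zero, Limits.comp_zero]
  have : Epi (ShortComplex.mk (homPre S.f N) (conn hS N) (homPre_conn hS N)).g := hδ
  let q' := (exact_conn hS N).desc q h1
  have hq' : conn hS N ≫ q' = q := (exact_conn hS N).g_desc q h1
  have h3 : (g ≫ conn hS N) ≫ q' = 0 := by rw [Category.assoc, hq', h2]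
  have h4 : q' = 0 := (cancel_epi (g ≫ conn hS N)).mp (h3.trans Limits.comp_zero.symm)
  rw [← hq', h4, Limits.comp_zero]

open K272.PushSeq in
include hS in
theorem main [HasExt.{u} X.Modules] (h₂ : FlatMod.IsFinLocFree S.X₂)
    (h1 : Subsingleton (Ext.{u} (Coh.structureModule X) (homSheaf S.X₂ N) 1))
    (h2 : Subsingleton (Ext.{u} (Coh.structureModule X) (homSheaf S.X₃ N) 2))
    (u : Coh.structureModule X ⟶ ((homFunctor S.X₃).rightDerived 1).obj N) [Epi u] :
    ∃ φ : S.X₁ ⟶ N, Epi (homPre (inc S φ) N) := by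
  obtain ⟨g, hg⟩ := exists_lift hS N h₂ h1 h2 u
  have : Epi (g ≫ conn hS N) := by rw [hg]; infer_instance
  exact ⟨_, epi_homPre_inc hS N g h₂⟩

end K272.ExtLift
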