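import Groth.Agent.VBPn.K272.LocExt
import Groth.Agent.VBPn.K852.Reflex
import Groth.Agent.ArSurf.K482.DetSes
import Groth.Agent.Dual.H375.ExtRestr
import Groth.Agent.Krr.H495.Rank
import Groth.Agent.ProjDual.K273.RankRestrict
import Groth.Agent.Sga67.CohLoc
import Groth.Agent.Ega2.TensLift
import Groth.Agent.Ega2.TensMon

/-!
# Rank and determinant of an extension of an ideal of codimension two

* `nonempty_iso_of_restrict`: invertible modules on a regular scheme which are isomorphic off codimension two are isomorphic;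
* `rank_det`: for `0 → N → E → J → 0` exact, `N` invertible, `E` finite locally free, `J` the ideal of a closed subscheme
  regularly immersed of codimension two: `E` has rank two and `Λ²E ≅ N`.
-/

set_option autoImplicit false
universe u

open CategoryTheory CategoryTheory.Limits AlgebraicGeometry TopologicalSpace Opposite

namespace K272.Hartogs

open Groth.Agent

theorem nonempty_iso_of_restrict {P : Scheme.{u}} [IsLocallyNoetherian P]
    (hreg : ∀ x : P, IsRegularLocalRing (P.presheaf.stalk x))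
    {L M : P.Modules} (hL : FlatMod.IsFinLocFree L) (hM : FlatMod.IsFinLocFree M) (U : P.Opens)
    (hU : ∀ x : P, x ∉ U → (2 : WithBot ℕ∞) ≤ ringKrullDim (P.presheaf.stalk x))
    (e : L.restrict U.ι ≅ M.restrict U.ι) : Nonempty (L ≅ M) := by
  have key : ∀ {F : P.Modules}, FlatMod.IsFinLocFree F → IsIso ((Scheme.Modules.restrictAdjunction U.ι).unit.app F) := by
    intro F hF
    have hc := PerfA.CohSerre.isCoh_of_isFinLocFree hF
    refine K852.Reflex.isIso_unit hreg hc (fun x => ?_) U hU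
    obtain ⟨h1, h2⟩ := Divis.StalkMod.finite_free_stalk hc.1 hF x
    infer_instance
  have i1 := key hL
  have i2 := key hM
  exact ⟨@asIso _ _ _ _ _ i1 ≪≫ (Scheme.Modules.pushforward U.ι).mapIso e ≪≫ (@asIso _ _ _ _ _ i2).symm⟩

variable {Y P : Scheme.{u}} (i : Y ⟶ P) [IsClosedImmersion i]

/-- The complement of the image. -/
def compl : P.Opens := ⟨(Set.range i)ᶜ, i.isClosedEmbedding.isClosed_range.isOpen_compl⟩

/-- The ideal is trivial on the complement. -/
theorem isIso_restrict : IsIso ((Scheme.Modules.restrictFunctor (compl i).ι).map (ClSub.idealModι i.ker)) := by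
  obtain ⟨q, w, hS⟩ := LocExt.exists_seq i
  have hR := hS.map_of_exact (Scheme.Modules.restrictFunctor (compl i).ι)
  have hz : IsZero ((Scheme.Modules.restrictFunctor (compl i).ι).obj (LocExt.pO i)) :=
    Sga67.CohLoc.isZero_restrict_push i (compl i).ι (by rw [Scheme.Opens.range_ι]; exact le_rfl) _
  have h1 : Mono ((Scheme.Modules.restrictFunctor (compl i).ι).map (ClSub.idealModι i.ker)) := hR.mono_f
  have h2 : Epi ((Scheme.Modules.restrictFunctor (compl i).ι).map (ClSub.idealModι i.ker)) :=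
    hR.exact.epi_f (hz.eq_of_tgt _ _)
  exact isIso_of_mono_of_epi ((Scheme.Modules.restrictFunctor (compl i).ι).map (ClSub.idealModι i.ker))

theorem rank_restrict {M : P.Modules} {n : ℕ} (U : P.Opens) (h : FlatMod.IsFinLocFreeOfRank n M) :
    FlatMod.IsFinLocFreeOfRank n (M.restrict U.ι) :=
  K273.RankRestrict.isFinLocFreeOfRank_restrict U fun x _ => by
    obtain ⟨O, hx, ⟨e⟩⟩ := h x
    obtain ⟨b, hb⟩ := Groth.Agent.Sga67.LocBasis.nonempty_restrict_iso_iff.mp ⟨e⟩
    exact ⟨O, b, hx, hb⟩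

theorem rank_det [IsLocallyNoetherian P] [ConnectedSpace P]
    (hreg : ∀ x : P, IsRegularLocalRing (P.presheaf.stalk x))
    (hi : RegImm.IsRegularImmersionOfCodim RegImm.Kind.regular 2 i) (hne : ∃ x : P, x ∉ Set.range i)
    {T : ShortComplex P.Modules} (hT : T.ShortExact) (e3 : T.X₃ ≅ ClSub.idealMod i.ker)
    (h1 : FlatMod.IsFinLocFreeOfRank 1 T.X₁) (h2 : FlatMod.IsFinLocFree T.X₂) :
    FlatMod.IsFinLocFreeOfRank 2 T.X₂ ∧ ∀ D : P.Modules, ExtPow.IsExtPow 2 T.X₂ D → Nonempty (D ≅ T.X₁) := by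
  obtain ⟨x, hx⟩ := hne
  have hxU : x ∈ compl i := hx
  have hnU : Nonempty (compl i : Scheme.{u}) := ⟨⟨x, hxU⟩⟩
  have hR := hT.map_of_exact (Scheme.Modules.restrictFunctor (compl i).ι)
  have hJ := isIso_restrict i
  let eJ : (Scheme.Modules.restrictFunctor (compl i).ι).obj T.X₃ ≅
      Coh.structureModule (compl i : Scheme.{u}) :=
    (Scheme.Modules.restrictFunctor (compl i).ι).mapIso e3 ≪≫
      @asIso _ _ _ _ ((Scheme.Modules.restrictFunctor (compl i).ι).map (ClSub.idealModι i.ker)) hJ ≪≫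
      Scheme.Modules.restrictUnitIso (compl i).ι
  have hU1 : FlatMod.IsFinLocFreeOfRank 1 (T.X₁.restrict (compl i).ι) := rank_restrict _ h1
  have hU3 : FlatMod.IsFinLocFreeOfRank 1 ((Scheme.Modules.restrictFunctor (compl i).ι).obj T.X₃) :=
    Krr.H495.Rank.rank_iso eJ.symm Krr.H495.Rank.isFinLocFreeOfRank_structureModule
  have hU2 := Krr.H495.Rank.rank_shortExact hR hU1 hU3
  have hr := Krr.H495.Rank.isFinLocFreeOfRank_of_connected h2 x
  have hr' : Krr.H495.Rank.rk T.X₂ x = 2 := Krr.H495.Rank.rank_unique (rank_restrict (compl i) hr) hU2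
  rw [hr'] at hr
  refine ⟨hr, fun D hD => ?_⟩
  have hDU : ExtPow.IsExtPow (1 + 1) (T.X₂.restrict (compl i).ι) (D.restrict (compl i).ι) :=
    Dual.H375.ExtRestr.isExtPow_restrict (compl i) hD
  obtain ⟨e⟩ := K482.DetSes.det_ses hR hU1 hU3 (Sga67.TensorOps.isExtPow_one _) hDU (Sga67.TensorOps.isExtPow_one _)
  have e' : D.restrict (compl i).ι ≅ T.X₁.restrict (compl i).ι :=
    e.symm ≪≫ Ega2.Tens.mapTIso (Iso.refl _) eJ ≪≫ Ega2.Tens.runit _
  exact nonempty_iso_of_restrict hreg
    (Krr.H495.Rank.isFinLocFree_of_rank (Krr.H495.Rank.rank_extPow hr hD)) (Krr.H495.Rank.isFinLocFree_of_rank h1)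
    (compl i) (fun y hy => by
      have hy' : y ∈ Set.range i := not_not.mp hy
      obtain ⟨z, rfl⟩ := hy'
      exact LocExt.two_le_dim i hi z) e'

end K272.Hartogs
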