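import Groth.Agent.VBPn.K272.PushSeq
import Groth.Agent.VBPn.K272.DualEpi
import Groth.Agent.VBPn.K272.ExtLift
import Groth.Agent.VBPn.K272.Hartogs
import Groth.Agent.VBPn.K697.ExtTw
import Groth.Agent.ProjDual.K274.PnTwist
import Groth.Agent.CohqA.EpiNeg
import Groth.Agent.ExtPow.K875.ExtTwist
import Groth.Agent.Sga5.ProjReg
import Groth.Agent.IntTh.K711.ProjDim
import Groth.Agent.Sga2.PnCoprod
import Groth.Agent.Dual.H366.ExtQCoh
import Groth.Agent.CohqB.SerTw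

/-!
# The Serre correspondence on `P^n_k`, `n ≥ 3`

`main`: a closed subscheme `Y` of `P^n_k` regularly immersed of codimension two with `Λ²(J/J²) ≅ i^*O(-c)` is the zero
scheme of a section of a vector bundle of rank two with determinant `O(c)`.
-/

set_option autoImplicit false
universe u

open CategoryTheory CategoryTheory.Limits CategoryTheory.Abelian AlgebraicGeometry TopologicalSpace Opposite

namespace K272.SerreCorr

open Groth.Agent Groth.Agent.Dcoh.MonClosed Groth.Agent.CohqB.HomSheaf K50.HomInj K50.HomAcyc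
open Groth.Agent.PerfB.TwistDer (tw twMul twZero)
open K274.PnTwist (twInv)

section Abs

variable {C : Type*} [Category C] [Abelian C] [HasExt.{u} C]

theorem subsingleton_of_sum {X Y : C} {r : ℕ} (Z : Fin r → C) (a : ∀ j, Y ⟶ Z j) (b : ∀ j, Z j ⟶ Y)
    (h : ∑ j, a j ≫ b j = 𝟙 Y) (n : ℕ) (hZ : ∀ j, Subsingleton (Ext X (Z j) n)) : Subsingleton (Ext X Y n) := by
  refine subsingleton_of_forall_eq 0 fun x => ?_
  have h1 : x.comp (Ext.mk₀ (∑ j, a j ≫ b j)) (add_zero n) = x := by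
    rw [h, Ext.comp_mk₀_id]
  rw [← h1, Ext.mk₀_sum, Ext.comp_sum]
  refine Finset.sum_eq_zero fun j _ => ?_
  rw [← Ext.mk₀_comp_mk₀, ← Ext.comp_assoc_of_third_deg_zero, Subsingleton.elim (x.comp (Ext.mk₀ (a j)) (add_zero n)) 0,
    Ext.zero_comp]

theorem subsingleton_of_iso {X Y Y' : C} (e : Y ≅ Y') (n : ℕ) (h : Subsingleton (Ext X Y n)) :
    Subsingleton (Ext X Y' n) :=
  subsingleton_of_sum (r := 1) (fun _ => Y) (fun _ => e.inv) (fun _ => e.hom) (by simp) n fun _ => h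

end Abs

variable (n : ℕ) (k : Type u) [Field k]

theorem inv_tw (d : ℤ) : PicF.IsInvertible (tw n k d) := Groth.Agent.PerfB.TwistDer.isInvertible_tw n k d

/-- `Ext^q(O, Hom(∐ O(d_j), O(e))) = 0`, `0 < q < n`. -/
theorem subsingleton_ext_hom_sum [HasExt.{u} (CohB1.ProjSpace n k).Modules] {r : ℕ} (d : Fin r → ℤ) (e : ℤ) (q : ℕ)
    (h0 : 0 < q) (hq : q < n) :
    Subsingleton (Ext.{u} (Coh.structureModule (CohB1.ProjSpace n k)) (homSheaf (∐ fun j => tw n k (d j)) (tw n k e)) q) := by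
  refine subsingleton_of_sum (fun j => homSheaf (tw n k (d j)) (tw n k e)) _ _
    (Sga2.PnCoprod.sum_homMapLeft (fun j => tw n k (d j)) (tw n k e)) q fun j => ?_
  have h1 := K274.PnTwist.subsingleton_ext_unit_tw.{u} n k (e + -(d j)) q (by omega) (by omega)
  exact subsingleton_of_iso
    ((K273.InvHom.homIso (twInv n k (d j) (-(d j)) (by ring)) (tw n k e)) ≪≫ twMul n k e (-(d j)) _ rfl).symm q h1

/-- A point of `P^n_k` outside a subscheme of codimension two. -/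
theorem exists_notMem {Y : Scheme.{u}} (i : Y ⟶ CohB1.ProjSpace n k) [IsClosedImmersion i]
    (hi : RegImm.IsRegularImmersionOfCodim RegImm.Kind.regular 2 i) : ∃ x : CohB1.ProjSpace n k, x ∉ Set.range i := by
  have hint : IsIntegral (CohB1.ProjSpace n k) := K711.ProjDim.isIntegral_projSpace n k
  have hPN : IsNoetherian (CohB1.ProjSpace n k) := Sga5.ProjReg.isNoetherian_projSpace n k
  refine ⟨genericPoint (CohB1.ProjSpace n k), ?_⟩
  rintro ⟨y, hy⟩
  have h1 := LocExt.two_le_dim i hi y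
  rw [hy] at h1
  have h2 : ringKrullDim ((CohB1.ProjSpace n k).presheaf.stalk (genericPoint (CohB1.ProjSpace n k))) = 0 :=
    ringKrullDim_eq_zero_of_field ((CohB1.ProjSpace n k).functionField)
  rw [h2] at h1
  exact absurd h1 (by decide)

/-- **Serre correspondence**, untwisted. -/
theorem exists_ses (hn : 3 ≤ n) {Y : Scheme.{u}} (i : Y ⟶ CohB1.ProjSpace n k) [IsClosedImmersion i]
    (hi : RegImm.IsRegularImmersionOfCodim RegImm.Kind.regular 2 i) (e : ℤ) (C : Y.Modules)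
    (hC : ExtPow.IsExtPow 2 (Omega.conormal i) C) (eC : C ≅ (Scheme.Modules.pullback i).obj (tw n k e)) :
    ∃ T : ShortComplex (CohB1.ProjSpace n k).Modules, T.ShortExact ∧ T.X₁ = tw n k e ∧ T.X₃ = ClSub.idealMod i.ker ∧
      FlatMod.IsFinLocFreeOfRank 2 T.X₂ ∧
      ∀ D, ExtPow.IsExtPow 2 T.X₂ D → Nonempty (D ≅ tw n k e) := by
  have hPN : IsNoetherian (CohB1.ProjSpace n k) := Sga5.ProjReg.isNoetherian_projSpace n k
  have hint : IsIntegral (CohB1.ProjSpace n k) := K711.ProjDim.isIntegral_projSpace n k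
  have hreg := Sga5.ProjReg.isRegularLocalRing_stalk n k
  have hinj := Groth.Agent.Dcoh.DerSch.hasInjectiveResolutions (CohB1.ProjSpace n k)
  have hext := K697.ExtTw.hasExt (CohB1.ProjSpace n k)
  have hN : FlatMod.IsFinLocFreeOfRank 1 (tw n k e) := Ega2.QCohLocal.isFinLocFreeOfRank_one_iff.mpr (inv_tw n k e)
  obtain ⟨r, d, -, p, hp⟩ := CohqA.EpiNeg.exists_epi_neg n k 0 (ClSub.idealMod i.ker)
    (VarietyB.DegCartier.isCoh_idealMod i.ker)
  let S : ShortComplex (CohB1.ProjSpace n k).Modules := ShortComplex.mk (kernel.ι p) p (kernel.condition p)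
  have hS : S.ShortExact := ShortComplex.ShortExact.mk' (ShortComplex.exact_of_f_is_kernel _ (kernelIsKernel p))
    inferInstance hp
  have hF : FlatMod.IsFinLocFree S.X₂ := Sga2.PnCoprod.isFinLocFree_sum n k d
  have hK : FlatMod.IsFinLocFree S.X₁ := RegKer.isFinLocFree_ker i hi hS hF (Iso.refl _)
  obtain ⟨u, hu⟩ := LocExt.exists_epi i hi (tw n k e) hN C hC eC
  have h1 : Subsingleton (Ext.{u} (Coh.structureModule (CohB1.ProjSpace n k)) (homSheaf S.X₂ (tw n k e)) 1) :=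
    subsingleton_ext_hom_sum n k d e 1 (by omega) (by omega)
  have h2 : Subsingleton (Ext.{u} (Coh.structureModule (CohB1.ProjSpace n k)) (homSheaf S.X₃ (tw n k e)) 2) := by
    have hiso := LocExt.isIso_homPre i hreg hi (tw n k e) hN
    have h3 := K274.PnTwist.subsingleton_ext_unit_tw.{u} n k e 2 (by omega) (by omega)
    exact subsingleton_of_iso ((Ega2.Tens.runit (tw n k e)).symm ≪≫
      (K273.InvHom.homIso (Ega2.Tens.lunit (Coh.structureModule (CohB1.ProjSpace n k))) (tw n k e)).symm ≪≫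
      @asIso _ _ _ _ _ hiso) 2 h3
  obtain ⟨φ, hφ⟩ := ExtLift.main hS (tw n k e) hF h1 h2 u
  have hE : FlatMod.IsFinLocFree (PushSeq.mid S φ) :=
    DualEpi.isFinLocFree_of_epi (PushSeq.presentation φ hS) hK
      (Krr.H495.Rank.isFinLocFree_biprod hF (Ega2.QCohLocal.isFinLocFree_of_rank hN)) (tw n k e) (inv_tw n k e)
  obtain ⟨hr, hD⟩ := Hartogs.rank_det i hreg hi (exists_notMem n k i hi) (PushSeq.shortExact φ hS) (Iso.refl _) hN hE
  exact ⟨PushSeq.seq S φ, PushSeq.shortExact φ hS, rfl, rfl, hr, hD⟩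

theorem main (hn : 3 ≤ n) {Y : Scheme.{u}} (i : Y ⟶ CohB1.ProjSpace n k) [IsClosedImmersion i]
    (hi : RegImm.IsRegularImmersionOfCodim RegImm.Kind.regular 2 i) (c : ℤ)
    (hdet : ∃ L : Y.Modules, ExtPow.IsExtPow 2 (Omega.conormal i) L ∧
      Nonempty (L ≅ (Scheme.Modules.pullback i).obj (Twist.twistProjSpace n k (-c)))) :
    ∃ S : ShortComplex (CohB1.ProjSpace n k).Modules, S.ShortExact ∧ FlatMod.IsFinLocFreeOfRank 2 S.X₂ ∧
      Nonempty (S.X₁ ≅ Coh.structureModule (CohB1.ProjSpace n k)) ∧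
      Nonempty (S.X₃ ≅ CohB1.tensorMod (ClSub.idealMod i.ker) (Twist.twistProjSpace n k c)) ∧
      ∃ D : (CohB1.ProjSpace n k).Modules, ExtPow.IsExtPow 2 S.X₂ D ∧ Nonempty (D ≅ Twist.twistProjSpace n k c) := by
  obtain ⟨C, hC, ⟨eC⟩⟩ := hdet
  obtain ⟨T, hT, h1, h3, hr, hD⟩ := exists_ses n k hn i hi (-c) C hC eC
  have hL : FlatMod.IsFinLocFreeOfRank 1 (tw n k c) := Ega2.QCohLocal.isFinLocFreeOfRank_one_iff.mpr (inv_tw n k c)
  have hT' := CohqB.SerTw.shortExact_tw (inv_tw n k c) hT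
  have hr' : FlatMod.IsFinLocFreeOfRank 2 (CohB1.tensorMod T.X₂ (tw n k c)) := Krr.H495.Rank.rank_tensor hr hL
  refine ⟨_, hT', hr', ⟨?_⟩, ⟨?_⟩, ?_⟩
  · exact Ega2.Tens.mapTIso (eqToIso h1) (Iso.refl _) ≪≫ twInv n k (-c) c (by ring)
  · exact Ega2.Tens.mapTIso (eqToIso h3) (Iso.refl _)
  · obtain ⟨D, hD1⟩ := Dual.H366.ExtQCoh.exists_isExtPow 2
      (PerfA.CohSerre.isCoh_of_isFinLocFree (Krr.H495.Rank.isFinLocFree_of_rank hr')).1
    obtain ⟨D0, hD0⟩ := Dual.H366.ExtQCoh.exists_isExtPow 2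
      (PerfA.CohSerre.isCoh_of_isFinLocFree (Krr.H495.Rank.isFinLocFree_of_rank hr)).1
    obtain ⟨e0⟩ := hD D0 hD0
    obtain ⟨e1⟩ := K875.ExtTwist.nonempty_iso_twist (Krr.H495.Rank.isFinLocFree_of_rank hr) hL hD1 hD0
    refine ⟨D, hD1, ⟨e1 ≪≫ Ega2.Tens.mapTIso e0 (?_ : CohB1.tensorPow (tw n k c) 2 ≅ tw n k (c + c)) ≪≫
      twMul n k (-c) (c + c) c (by ring)⟩⟩
    exact Ega2.Tens.mapTIso (Ega2.Tens.lunit _) (Iso.refl _) ≪≫ twMul n k c c (c + c) rfl

end K272.SerreCorr
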