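import Groth.Agent.VBPn.K272.RegKer
import Groth.Agent.Coherent.K50.HomAcyc
import Groth.Agent.Coherent.K48.ExtRestr
import Groth.Agent.ProjDual.K272.Ext1
import Groth.Agent.ProjDual.K273.Van
import Groth.Agent.ProjDual.K273.ExtHomO
import Groth.Agent.ProjDual.K273.InvHom
import Groth.Agent.S11905
import Groth.Agent.S3630
import Groth.Agent.SiteCmp.K578.Der
import Groth.Agent.CycB.C1Pull
import Groth.Agent.Ega2.QCohLocal

/-!
# `Ext¹(J, N)` for the ideal of a closed subscheme regularly immersed of codimension two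

* `isIso_homPre`: `Hom(O, N) ≅ Hom(J, N)`, `N` invertible on a regular scheme;
* `nonempty_iso`: `Ext¹(J, N) ≅ i_*O_Y` if `Λ²(J/J²) ≅ i^*N`;
* `exists_epi`: `Ext¹(J, N)` is a quotient of `O`.
-/

set_option autoImplicit false
universe u

open CategoryTheory CategoryTheory.Limits AlgebraicGeometry TopologicalSpace Opposite

namespace K272.LocExt

open Groth.Agent Groth.Agent.Dcoh.MonClosed Groth.Agent.CohqB.HomSheaf K50.HomInj K50.HomAcyc

variable {Y P : Scheme.{u}} (i : Y ⟶ P) [IsClosedImmersion i]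

theorem two_le_dim [IsLocallyNoetherian P] (hi : RegImm.IsRegularImmersionOfCodim RegImm.Kind.regular 2 i) (y : Y) :
    (2 : WithBot ℕ∞) ≤ ringKrullDim (P.presheaf.stalk (i y)) := by
  obtain ⟨rs, hlen, hrs, -⟩ := K560.Stalk.exists_isRegular_ker_stalkMap_of_codim i y 2 hi
  have h1 := ringKrullDim_add_length_eq_ringKrullDim_of_isRegular rs hrs
  have : Nontrivial (P.presheaf.stalk (i y) ⧸ Ideal.ofList rs) :=
    Ideal.Quotient.nontrivial_iff.mpr (by
      intro h
      apply hrs.2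
      rw [h]
      simp)
  have h2 : (0 : WithBot ℕ∞) ≤ ringKrullDim (P.presheaf.stalk (i y) ⧸ Ideal.ofList rs) := ringKrullDim_nonneg_of_nontrivial
  rw [← h1, hlen]
  exact le_add_of_nonneg_left h2

/-- `i_*O_Y`. -/
noncomputable abbrev pO : P.Modules := (Scheme.Modules.pushforward i).obj (Coh.structureModule Y)

/-- `0 → J → O → i_*O_Y → 0`. -/
theorem exists_seq : ∃ (q : Coh.structureModule P ⟶ pO i) (w : ClSub.idealModι i.ker ≫ q = 0),
    (ShortComplex.mk (ClSub.idealModι i.ker) q w).ShortExact := by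
  obtain ⟨q⟩ := K272.Ext1.nonempty_quotMod_iso i
  have w : ClSub.idealModι i.ker ≫ ClSub.toSubscheme i.ker ≫ q.hom = 0 := by
    rw [← Category.assoc, show ClSub.idealModι i.ker ≫ ClSub.toSubscheme i.ker = 0 from kernel.condition _, zero_comp]
  exact ⟨_, w, ShortComplex.shortExact_of_iso (ShortComplex.isoMk
      (S₁ := ShortComplex.mk (ClSub.idealModι i.ker) (ClSub.toSubscheme i.ker) (kernel.condition _))
      (S₂ := ShortComplex.mk (ClSub.idealModι i.ker) (ClSub.toSubscheme i.ker ≫ q.hom) w)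
      (Iso.refl _) (Iso.refl _) q
      ((Category.id_comp _).trans (Category.comp_id _).symm) (Category.id_comp _))
      (K272.Ext1.shortExact_idealMod i.ker)⟩

theorem isFinLocFree_unit {P : Scheme.{u}} : FlatMod.IsFinLocFree (Coh.structureModule P) :=
  Ega2.QCohLocal.isFinLocFree_of_rank (Ega2.QCohLocal.isFinLocFreeOfRank_one_iff.mpr
    Groth.Agent.Fdesc.LocGen.isInvertible_structureModule)

theorem isInvertible_of_iso {L L' : Y.Modules} (e : L ≅ L') (h : PicF.IsInvertible L) :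
    PicF.IsInvertible L' := by
  intro x
  obtain ⟨U, hx, ⟨f⟩⟩ := h x
  exact ⟨U, hx, ⟨(Scheme.Modules.restrictFunctor U.ι).mapIso e.symm ≪≫ f⟩⟩

section Ext

variable [IsLocallyNoetherian P] [HasInjectiveResolutions P.Modules]

theorem isZero_ext (hreg : ∀ x : P, IsRegularLocalRing (P.presheaf.stalk x))
    (hi : RegImm.IsRegularImmersionOfCodim RegImm.Kind.regular 2 i) (N : P.Modules)
    (hN : FlatMod.IsFinLocFreeOfRank 1 N) (q : ℕ) (hq : q < 2) :
    IsZero (((homFunctor (pO i)).rightDerived q).obj N) := by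
  have h1 : ModSite.HasSheafHom (O := P.sheaf) (pO i) := K291.Colim.hasSheafHom (O := P.sheaf) (pO i)
  have h2 : HasInjectiveResolutions (ModSite.Mod P.sheaf) := inferInstanceAs (HasInjectiveResolutions P.Modules)
  have h3 := Groth.Agent.S3630.result Y P i
  let R : InjectiveResolution N := injectiveResolution N
  have h0 := K273.Van.isZero_homology_of_dim_ne (i := i) hreg R hN q fun y h => by
    have h4 := two_le_dim i hi y
    rw [h] at h4
    have h5 : 2 ≤ q := by exact_mod_cast h4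
    omega
  have h4 := ((Scheme.Modules.pushforward i).map_isZero h0).of_iso (K273.ExtHomO.extShPushIso i R q)
  exact h4.of_iso (K48.ExtRestr.extShIso (pO i) q N).symm

omit [IsLocallyNoetherian P] in
/-- `Hom(M, N) ≅ R⁰Hom(M, N)`. -/
noncomputable def zeroIso (M N : P.Modules) : (homFunctor M).obj N ≅ ((homFunctor M).rightDerived 0).obj N :=
  (asIso ((homFunctor M).toRightDerivedZero)).app N

/-- `Hom(O, N) ≅ Hom(J, N)`. -/
theorem isIso_homPre (hreg : ∀ x : P, IsRegularLocalRing (P.presheaf.stalk x))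
    (hi : RegImm.IsRegularImmersionOfCodim RegImm.Kind.regular 2 i) (N : P.Modules)
    (hN : FlatMod.IsFinLocFreeOfRank 1 N) : IsIso (homPre (ClSub.idealModι i.ker) N) := by
  obtain ⟨q, w, hS⟩ := exists_seq i
  have hz0 := isZero_ext i hreg hi N hN 0 (by omega)
  have hz1 := isZero_ext i hreg hi N hN 1 (by omega)
  have hz : IsZero (homSheaf (pO i) N) := by
    exact hz0.of_iso (zeroIso (pO i) N)
  have hmono : Mono (homPre (ClSub.idealModι i.ker) N) :=
    (exact_homSC hS N).mono_g (hz.eq_of_src _ _)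
  have hepi : Epi (homPre (ClSub.idealModι i.ker) N) :=
    (Sga4h.FunLES.exact₀ (homPreNat _) (homPreNat _) (homPreNat_comp_eq_zero _) (shortExact_homPreNat hS) N).epi_f
      (hz1.eq_of_tgt _ _)
  exact isIso_of_mono_of_epi _

omit [IsLocallyNoetherian P] in
/-- `Ext¹(J, N) ≅ Ext²(i_*O_Y, N)`. -/
theorem nonempty_shift (N : P.Modules) : Nonempty (((homFunctor (ClSub.idealMod i.ker)).rightDerived 1).obj N ≅
    ((homFunctor (pO i)).rightDerived 2).obj N) := by
  obtain ⟨q, w, hS⟩ := exists_seq i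
  have := Sga4h.FunLES.isIso_δ (homPreNat _) (homPreNat _) (homPreNat_comp_eq_zero _) (shortExact_homPreNat hS) N 1
    (isAcyc_of_flf isFinLocFree_unit N 1 (by omega)) (isAcyc_of_flf isFinLocFree_unit N 2 (by omega))
  exact ⟨asIso (Sga4h.FunLES.δ (homPreNat _) (homPreNat _) (homPreNat_comp_eq_zero _) (shortExact_homPreNat hS) N 1)⟩

/-- `Ext¹(J, N) ≅ i_*O_Y` if `Λ²(J/J²) ≅ i^*N`. -/
theorem nonempty_iso (hi : RegImm.IsRegularImmersionOfCodim RegImm.Kind.regular 2 i) (N : P.Modules)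
    (hN : FlatMod.IsFinLocFreeOfRank 1 N) (C : Y.Modules) (hC : ExtPow.IsExtPow 2 (Omega.conormal i) C)
    (e : C ≅ (Scheme.Modules.pullback i).obj N) :
    Nonempty (((homFunctor (ClSub.idealMod i.ker)).rightDerived 1).obj N ≅ pO i) := by
  have h1 : ModSite.HasSheafHom (O := P.sheaf) (pO i) := K291.Colim.hasSheafHom (O := P.sheaf) (pO i)
  have h2 : HasInjectiveResolutions (ModSite.Mod P.sheaf) := inferInstanceAs (HasInjectiveResolutions P.Modules)
  have h3 : ModSite.HasSheafHom (O := Y.sheaf) C := K291.Colim.hasSheafHom (O := Y.sheaf) C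
  obtain ⟨e1⟩ := nonempty_shift i N
  obtain ⟨e2⟩ := S11905.result P Y i 2 hi N (K273.Van.isQCoh_of_rank_one hN) C hC
  have hCi : PicF.IsInvertible C := by
    have h := CycB.C1Pull.isInvertible_pullback i (Ega2.QCohLocal.isFinLocFreeOfRank_one_iff.mp hN)
    exact isInvertible_of_iso e.symm h
  obtain ⟨C', -, ⟨e3⟩⟩ := Groth.Agent.Grpsch.PicGrp.exists_inverse hCi
  have e4 : (ModSite.sheafHom (O := Y.sheaf) C).obj ((Scheme.Modules.pullback i).obj N) ≅ Coh.structureModule Y :=
    (K273.ExtHomO.sheafHomF C).app _ ≪≫ (Groth.Agent.Sga2.PnHomAdj.homF C).mapIso e.symm ≪≫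
      K273.InvHom.homIso e3 C ≪≫ e3
  exact ⟨e1 ≪≫ (K48.ExtRestr.extShIso (pO i) 2 N).symm ≪≫ e2 ≪≫ (Scheme.Modules.pushforward i).mapIso e4⟩

theorem exists_epi (hi : RegImm.IsRegularImmersionOfCodim RegImm.Kind.regular 2 i) (N : P.Modules)
    (hN : FlatMod.IsFinLocFreeOfRank 1 N) (C : Y.Modules) (hC : ExtPow.IsExtPow 2 (Omega.conormal i) C)
    (e : C ≅ (Scheme.Modules.pullback i).obj N) :
    ∃ u : Coh.structureModule P ⟶ ((homFunctor (ClSub.idealMod i.ker)).rightDerived 1).obj N, Epi u := by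
  obtain ⟨q, w, hS⟩ := exists_seq i
  obtain ⟨e1⟩ := nonempty_iso i hi N hN C hC e
  have : Epi q := hS.epi_g
  exact ⟨q ≫ e1.inv, inferInstance⟩

end Ext

end K272.LocExt
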