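import Groth.Agent.RegImm.K560.Stalk
import Groth.Agent.OmegaSh.K583.IdealStalk
import Groth.Agent.CohqB.DevSupport
import Groth.Agent.Divis.StalkMod
import Groth.Agent.Sga67.CohBasic
import Groth.Agent.PerfA.CohSerre
import Groth.Agent.VarietyB.DegCartier
import Mathlib.RingTheory.Regular.ProjectiveDimension

/-!
# First syzygies of the ideal of a regularly immersed subscheme of codimension two

* `isFinLocFree_ker`: for `0 → K → F → J → 0` exact, `F` finite locally free, `J` the ideal of a closed subscheme
  regularly immersed of codimension two, `K` is finite locally free.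
-/

set_option autoImplicit false
universe u

open CategoryTheory CategoryTheory.Limits AlgebraicGeometry TopologicalSpace Opposite

namespace K272.RegKer

open Groth.Agent Groth.Agent.CycB.StalkExact

section Alg

variable {R : Type u} [CommRing R]

/-- `0 → I → R → R/I → 0`. -/
theorem shortExact_ideal (I : Ideal R) : (ShortComplex.mk (ModuleCat.ofHom (Submodule.subtype I))
    (ModuleCat.ofHom (Submodule.mkQ I))
    (by ext x; exact Ideal.Quotient.eq_zero_iff_mem.mpr x.2)).ShortExact where
  exact := (ShortComplex.ShortExact.moduleCat_exact_iff_function_exact _).mpr (fun x => by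
    change Ideal.Quotient.mk I x = 0 ↔ _
    rw [Ideal.Quotient.eq_zero_iff_mem]
    exact ⟨fun h => ⟨⟨x, h⟩, rfl⟩, by rintro ⟨y, rfl⟩; exact y.2⟩)
  mono_f := (ModuleCat.mono_iff_injective _).mpr (Submodule.injective_subtype I)
  epi_g := (ModuleCat.epi_iff_surjective _).mpr (Submodule.mkQ_surjective I)

theorem hasPD_ideal [IsLocalRing R] [IsNoetherianRing R] (rs : List R)
    (hrs : RingTheory.Sequence.IsRegular R rs) (n : ℕ) (hn : rs.length = n + 1) :
    HasProjectiveDimensionLT (ModuleCat.of R (Ideal.ofList rs)) (n + 1) := by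
  have h1 := ModuleCat.projectiveDimension_quotient_eq_length.{u} rs hrs
  have h2 : projectiveDimension (ModuleCat.of R (R ⧸ Ideal.ofList rs)) = rs.length := by
    rw [← h1]
    exact projectiveDimension_eq_of_iso (Shrink.linearEquiv R (R ⧸ Ideal.ofList rs)).symm.toModuleIso
  have h3 : HasProjectiveDimensionLT (ModuleCat.of R (R ⧸ Ideal.ofList rs)) (n + 2) := by
    rw [← projectiveDimension_lt_iff, h2, hn]
    exact_mod_cast Nat.lt_succ_self _
  have hproj : Projective (ModuleCat.of R R) := inferInstance
  exact (shortExact_ideal (Ideal.ofList rs)).hasProjectiveDimensionLT_X₁ (n + 1)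
    (hasProjectiveDimensionLT_of_ge _ 1 (n + 1) (by omega)) h3

/-- The kernel of a surjection from a finite free module onto a module of projective dimension at most one. -/
theorem free_of_exact [IsLocalRing R] [IsNoetherianRing R] {K F J : Type u} [AddCommGroup K] [Module R K]
    [AddCommGroup F] [Module R F] [AddCommGroup J] [Module R J] [Module.Free R F] [Module.Finite R F]
    (f : K →ₗ[R] F) (g : F →ₗ[R] J) (hf : Function.Injective f) (hex : Function.Exact f g)
    (hg : Function.Surjective g) (h : HasProjectiveDimensionLT (ModuleCat.of R J) 2) : Module.Free R K := by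
  let S : ShortComplex (ModuleCat.{u} R) := ShortComplex.mk (ModuleCat.ofHom f) (ModuleCat.ofHom g) (by
    ext x; exact hex.apply_apply_eq_zero x)
  have hS : S.ShortExact :=
    { exact := (ShortComplex.ShortExact.moduleCat_exact_iff_function_exact S).mpr hex
      mono_f := (ModuleCat.mono_iff_injective _).mpr hf
      epi_g := (ModuleCat.epi_iff_surjective _).mpr hg }
  have hproj : Projective (ModuleCat.of R F) := inferInstance
  have h1 : HasProjectiveDimensionLT (ModuleCat.of R K) 1 :=
    hS.hasProjectiveDimensionLT_X₁ 1 (inferInstanceAs (HasProjectiveDimensionLT (ModuleCat.of R F) 1)) h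
  have h2 : Projective (ModuleCat.of R K) := inferInstance
  have h3 : Module.Projective R K := (IsProjective.iff_projective K).mpr h2
  have h4 : Module.Finite R K := Module.Finite.of_injective f hf
  exact Module.free_of_flat_of_isLocalRing

end Alg

variable {Y P : Scheme.{u}} [IsLocallyNoetherian P] (i : Y ⟶ P) [IsClosedImmersion i]

omit [IsLocallyNoetherian P] in
theorem stalkLin_bijective (D : P.IdealSheafData) (x : P) (hx : x ∉ D.support) :
    Function.Bijective (stalkLin (ClSub.idealModι D) x) := by
  have hm : Mono (ClSub.idealModι D) := inferInstanceAs (Mono (kernel.ι _))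
  refine ⟨stalkLin_injective _ x, ?_⟩
  have hS := VarietyB.DegCartier.idealSeq_shortExact D
  have hex := stalkLin_exact (VarietyB.DegCartier.idealSeq D) hS.exact x
  have h1 : x ∉ CohB1.support (ClSub.quotMod D) := fun h =>
    hx (VarietyB.DegCartier.support_quotMod_subset D h)
  rw [CohqB.DevSupport.not_mem_support_iff] at h1
  have h2 : Subsingleton ((VarietyB.DegCartier.idealSeq D).X₃.presheaf.stalk x) := h1
  intro t
  exact (hex t).mp (Subsingleton.elim _ _)

theorem hasPD_stalk (hi : RegImm.IsRegularImmersionOfCodim RegImm.Kind.regular 2 i) (x : P) :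
    HasProjectiveDimensionLT (ModuleCat.of (P.presheaf.stalk x) ((ClSub.idealMod i.ker).presheaf.stalk x)) 2 := by
  by_cases hx : x ∈ Set.range i
  · obtain ⟨y, rfl⟩ := hx
    obtain ⟨rs, hlen, hrs, hker⟩ := K560.Stalk.exists_isRegular_ker_stalkMap_of_codim i y 2 hi
    have h1 := hasPD_ideal rs hrs 1 hlen
    have hr : LinearMap.range (K583.IdealStalk.idSt i.ker (i y)) = Ideal.ofList rs := by
      rw [← hker]
      ext a
      rw [K583.IdealStalk.mem_range_idSt_iff i i.isClosedEmbedding.isInducing y a]
      rfl
    let e : (ClSub.idealMod i.ker).presheaf.stalk (i y) ≃ₗ[P.presheaf.stalk (i y)] Ideal.ofList rs :=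
      (LinearEquiv.ofInjective _ (K583.IdealStalk.idSt_injective i.ker (i y))).trans (LinearEquiv.ofEq _ _ hr)
    exact hasProjectiveDimensionLT_of_iso e.symm.toModuleIso 2
  · have hs : x ∉ i.ker.support := by
      rw [← SetLike.mem_coe, Scheme.Hom.support_ker, IsClosed.closure_eq i.isClosedEmbedding.isClosed_range]
      exact hx
    let e : (ClSub.idealMod i.ker).presheaf.stalk x ≃ₗ[P.presheaf.stalk x] P.presheaf.stalk x :=
      LinearEquiv.ofBijective (K583.IdealStalk.idSt i.ker x)
        ⟨K583.IdealStalk.idSt_injective i.ker x,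
          (Groth.Agent.CycB.PushStalk.unitStalk P x).symm.surjective.comp
            (stalkLin_bijective i.ker x hs).2⟩
    have hproj : Projective (ModuleCat.of (P.presheaf.stalk x) (P.presheaf.stalk x)) := inferInstance
    have h1 : HasProjectiveDimensionLT (ModuleCat.of (P.presheaf.stalk x) (P.presheaf.stalk x)) 2 :=
      hasProjectiveDimensionLT_of_ge _ 1 2 (by omega)
    exact hasProjectiveDimensionLT_of_iso e.symm.toModuleIso 2

theorem isFinLocFree_ker (hi : RegImm.IsRegularImmersionOfCodim RegImm.Kind.regular 2 i)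
    {S : ShortComplex P.Modules} (hS : S.ShortExact) (h₂ : FlatMod.IsFinLocFree S.X₂)
    (e : S.X₃ ≅ ClSub.idealMod i.ker) : FlatMod.IsFinLocFree S.X₁ := by
  have hc2 := PerfA.CohSerre.isCoh_of_isFinLocFree h₂
  have hmono := hS.mono_f
  have hepi := hS.epi_g
  have hq3 : Coh.IsQCoh S.X₃ := CohqB.LocalQC.isQCoh_of_iso e.symm (VarietyB.DegCartier.isCoh_idealMod i.ker).1
  have hc1 : Coh.IsCoh S.X₁ := Sga67.CohBasic.isCoh_X₁ hS hc2 hq3
  refine Divis.StalkMod.isFinLocFree_of_free_stalk hc1 fun x => ?_
  obtain ⟨hf2, hr2⟩ := Divis.StalkMod.finite_free_stalk hc2.1 h₂ x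
  have h3 : HasProjectiveDimensionLT (ModuleCat.of (P.presheaf.stalk x) (S.X₃.presheaf.stalk x)) 2 := by
    have := hasPD_stalk i hi x
    exact hasProjectiveDimensionLT_of_iso (stalkLinEquiv e.symm x).toModuleIso 2
  exact free_of_exact (stalkLin S.f x) (stalkLin S.g x) (stalkLin_injective _ x) (stalkLin_exact S hS.exact x)
    (stalkLin_surjective _ x) h3

end K272.RegKer
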